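import Groth.Agent.RedClassLib.Cls
import Groth.Agent.DCohLib.Pullback
import Groth.Agent.DCohLib.TensorPerf
import Groth.Agent.DCohLib.PerfLocFree
import Groth.Agent.GenBCLib.Helpers
import Groth.Agent.PullbackMod.LimFree

/-!
# Chains with stable factors in the class, and the stalks of their members
-/

set_option autoImplicit false
set_option backward.isDefEq.respectTransparency false
set_option linter.style.haveILetI false
set_option linter.unusedSectionVars false
set_option maxHeartbeats 1000000

universe u

open CategoryTheory CategoryTheory.Limits AlgebraicGeometry Polynomial StabCat TopologicalSpace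

noncomputable section

namespace Groth.Agent.RedClassLib

open ShStabLib PullbackMod

theorem projective_of_exact {R A B C : Type u} [CommRing R] [AddCommGroup A] [Module R A] [AddCommGroup B] [Module R B]
    [AddCommGroup C] [Module R C] [Module.Projective R A] [Module.Projective R C] (f : A →ₗ[R] B) (g : B →ₗ[R] C)
    (hf : Function.Injective f) (hg : Function.Surjective g) (hex : Function.Exact f g) : Module.Projective R B := by
  obtain ⟨l, hl⟩ := Module.projective_lifting_property g LinearMap.id hg
  exact Module.Projective.of_equiv (Function.Exact.splitSurjectiveEquiv hex hf ⟨l, hl⟩).1.symm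

variable {k : Type u} [Field k] {X : Scheme.{u}} [X.Over (Spec (CommRingCat.of k))]
  [IsProper (X ↘ Spec (CommRingCat.of k))] {L : X.Modules} {d : ℕ} {p : ℚ[X]}
  (hL : CohB1.IsAmple L) (hp : 0 < alpha d p) {E : X.Modules} {s : LTSeries (Subobject E)}
  (hE : Cls k L d p E) (h0 : s.head = ⊥)
  (hst : ∀ i : Fin s.length, ShStab.IsStable k X L (factor s i) d ∧ ∀ q, HP k L (factor s i) q → RedEq d q p)

include hL hp hE h0 hst

theorem cls_member (i : Fin (s.length + 1)) : Cls k L d p (s i : X.Modules) := by
  haveI := EulerIneqLib.isNoetherian_proper (X := X) k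
  induction i using Fin.induction with
  | zero =>
    left
    show IsZero ((s 0 : Subobject E) : X.Modules)
    rw [show s 0 = ⊥ from h0]
    exact bot_isZero E
  | succ i ih =>
    have hle : s i.castSucc ≤ s i.succ := (s.step i).le
    have hc := isCoh_of_fct k (A := ⟨s i.castSucc, Cls.coh k ih⟩) hle (hst i).1.1
    have hdE := Cls.dimLE k hL hE
    obtain ⟨q1, -, h1⟩ := exists_hp k hL (Cls.coh k ih) (Cls.dimLE k hL ih)
    obtain ⟨q2, -, h2⟩ := exists_hp k hL hc (dimLE_of_mono hdE (s i.succ).arrow)
    obtain ⟨q3, h3, e, -, -⟩ := exists_hp_coker k hL (Subobject.ofLE _ _ hle) (Cls.coh k ih) hc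
      (dimLE_of_mono hdE (s i.succ).arrow) h1 h2
    refine Cls.sub k hL hp hE (s i.succ).arrow hc h2 ?_
    rw [e, cr_add_left, Cls.cr_eq k hL ih h1, zero_add]
    exact redEq_iff.1 ((hst i).2 q3 h3)

/-- A stable subquotient is one of the factors. -/
theorem exists_iso_factor {S : X.Modules} (hS : ShStab.IsStable k X L S d) (hSr : ∀ q, HP k L S q → RedEq d q p) :
    ∀ (i : Fin (s.length + 1)) {B : X.Modules}, Cls k L d p B → ∀ (j : B ⟶ (s i : X.Modules)), Mono j →
      ∀ (π : B ⟶ S), Epi π → ∃ l : Fin s.length, Nonempty (S ≅ factor s l) := by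
  intro i
  induction i using Fin.induction with
  | zero =>
    intro B _ j hj π hπ
    have hz : IsZero ((s 0 : Subobject E) : X.Modules) := by
      rw [show s 0 = ⊥ from h0]
      exact bot_isZero E
    refine absurd ((IsZero.iff_id_eq_zero S).2 ?_) hS.2.1
    rw [← cancel_epi π, Category.comp_id, Limits.comp_zero]
    exact ((IsZero.iff_id_eq_zero B).2 ((cancel_mono j).1 (hz.eq_of_tgt _ _))).eq_of_src _ _
  | succ i ih =>
    intro B hB j hj π hπ
    have hle : s i.castSucc ≤ s i.succ := (s.step i).le
    obtain ⟨hF, hFr⟩ := hst i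
    let h : B ⟶ factor s i := j ≫ cokernel.π (Subobject.ofLE _ _ hle)
    have hK : Cls k L d p (kernel h) := kernel_cls k hL hp hB (cls_of_stable k hL hp hF hFr) h
    have e0 : (kernel.ι h ≫ j) ≫ cokernel.π (Subobject.ofLE _ _ hle) = 0 := by
      rw [Category.assoc]; exact kernel.condition h
    let l : kernel h ⟶ (s i.castSucc : X.Modules) := Abelian.monoLift (Subobject.ofLE _ _ hle) _ e0
    haveI : Mono l := by
      haveI : Mono (l ≫ Subobject.ofLE _ _ hle) := by
        rw [Abelian.monoLift_comp]; infer_instance
      exact mono_of_mono l (Subobject.ofLE _ _ hle)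
    by_cases hr : kernel.ι h ≫ π = 0
    · refine ⟨i, ?_⟩
      let t : Abelian.coimage h ⟶ S := cokernel.desc (kernel.ι h) π hr
      have ht : cokernel.π (kernel.ι h) ≫ t = π := by simp [t]
      haveI : Epi t := by
        haveI : Epi (cokernel.π (kernel.ι h) ≫ t) := by rw [ht]; infer_instance
        exact epi_of_epi (cokernel.π (kernel.ι h)) t
      have hh : h ≠ 0 := fun e => by
        refine hS.2.1 ((IsZero.iff_id_eq_zero S).2 ?_)
        rw [← cancel_epi π, Category.comp_id, Limits.comp_zero, ← ht]
        have hc : cokernel.π (kernel.ι h) = 0 := by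
          rw [← cancel_epi (𝟙 B), Category.id_comp, Limits.comp_zero]
          haveI : Epi (kernel.ι h) :=
            epi_of_epi_fac (kernel.lift_ι h (𝟙 B) (by rw [e, Limits.comp_zero]))
          exact (cancel_epi (kernel.ι h)).1 ((cokernel.condition _).trans Limits.comp_zero.symm)
        rw [hc, Limits.zero_comp]
      haveI := epi_to_stable k hL hp hB hF hFr h hh
      let c : Abelian.coimage h ≅ factor s i :=
        Abelian.coimageIsoImage h ≪≫ (asIso (Abelian.image.ι h) : Abelian.image h ≅ factor s i)
      have ht0 : c.inv ≫ t ≠ 0 := fun e => by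
        refine hS.2.1 ((IsZero.iff_id_eq_zero S).2 ?_)
        rw [← cancel_epi (c.inv ≫ t), Category.comp_id, Limits.comp_zero, e]
      haveI := mono_of_stable' k hL hp (cls_of_stable k hL hp hS hSr) hF hFr (c.inv ≫ t) ht0
      haveI : IsIso (c.inv ≫ t) := isIso_of_mono_of_epi _
      exact ⟨(asIso (c.inv ≫ t)).symm⟩
    · exact ih hK l inferInstance (kernel.ι h ≫ π) (epi_to_stable k hL hp hK hS hSr _ hr)

omit hL hp hE hst in
/-- Projectivity of the stalks passes from the factors to the members. -/
theorem projective_stalk_member (x : X)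
    (hx : ∀ i : Fin s.length, Module.Projective (X.presheaf.stalk x) ((factor s i).presheaf.stalk x))
    (i : Fin (s.length + 1)) : Module.Projective (X.presheaf.stalk x) ((s i : X.Modules).presheaf.stalk x) := by
  induction i using Fin.induction with
  | zero =>
    have hz : IsZero ((s 0 : Subobject E) : X.Modules) := by
      rw [show s 0 = ⊥ from h0]; exact bot_isZero E
    haveI : Subsingleton ((s 0 : X.Modules).presheaf.stalk x) := subsingleton_of_forall_eq 0 fun z => by
      have := LinearMap.congr_fun ((eq_zero_iff_stalk (𝟙 (s 0 : X.Modules))).1 (hz.eq_of_src _ _) x) z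
      rw [stalkLin_id] at this
      exact this
    infer_instance
  | succ i ih =>
    have hle : s i.castSucc ≤ s i.succ := (s.step i).le
    haveI := hx i
    haveI := ih
    let u := Subobject.ofLE _ _ hle
    haveI : Epi (ShortComplex.mk u (cokernel.π u) (cokernel.condition u)).g :=
      inferInstanceAs (Epi (cokernel.π u))
    have hex : Function.Exact (stalkLin u x) (stalkLin (cokernel.π u) x) :=
      DCohLib.exact_stalkLin (ShortComplex.mk u (cokernel.π u) (cokernel.condition u))
        (ShortComplex.exact_cokernel u) x
    haveI : Module.Projective (X.presheaf.stalk x) ((cokernel u).presheaf.stalk x) := hx i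
    exact projective_of_exact (stalkLin u x) (stalkLin (cokernel.π u) x)
      ((mono_iff_stalk u).1 inferInstance x) ((epi_iff_stalk (cokernel.π u)).1 inferInstance x) hex

end Groth.Agent.RedClassLib
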