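import Groth.Agent.ShStabLib.JH
import Groth.Agent.ShStabLib.Saturation
import Groth.Agent.ShGeomLib.HN
import Groth.Agent.DevLib.TFSub

/-!
# The semistable modules of a given reduced Hilbert polynomial form an abelian category
-/

set_option autoImplicit false
set_option backward.isDefEq.respectTransparency false
set_option linter.style.haveILetI false
set_option linter.unusedSectionVars false
set_option maxHeartbeats 1000000

universe u

open CategoryTheory CategoryTheory.Limits AlgebraicGeometry Polynomial StabCat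

noncomputable section

namespace Groth.Agent.RedClassLib

open ShStabLib

variable (k : Type u) [Field k] {X : Scheme.{u}} [X.Over (Spec (CommRingCat.of k))]

/-- Zero, or semistable of the reduced polynomial of `p`. -/
def Cls (L : X.Modules) (d : ℕ) (p : ℚ[X]) (M : X.Modules) : Prop :=
  IsZero M ∨ (ShStab.IsSemistable k X L M d ∧ ∀ q, HP k L M q → RedEq d q p)

variable [IsProper (X ↘ Spec (CommRingCat.of k))] {L : X.Modules} {d : ℕ} {p : ℚ[X]}

theorem Cls.coh {M : X.Modules} (h : Cls k L d p M) : Coh.IsCoh M :=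
  h.elim DevLib.isCoh_of_isZero fun h => h.1.1

variable (hL : CohB1.IsAmple L)
include hL

theorem Cls.dimLE {M : X.Modules} (h : Cls k L d p M) : DimLE d M := by
  rcases h with h | h
  · unfold DimLE
    rw [HilbLib.support_eq_empty_of_isZero h]
    haveI : IsEmpty (TopologicalSpace.IrreducibleCloseds (∅ : Set X)) := ⟨fun c => by
      obtain ⟨z, -⟩ := c.isIrreducible.nonempty
      exact z.2⟩
    rw [topologicalKrullDim, Order.krullDim_eq_bot]
    exact WithBot.bot_lt_coe _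
  · exact dimLE_of_isPure h.1.1 h.1.2.2.1

theorem Cls.cr_eq {M : X.Modules} (h : Cls k L d p M) {q : ℚ[X]} (hq : HP k L M q) : cr d q p = 0 := by
  rcases h with h | h
  · rw [hp_unique k hq (Q := 0) fun m => by rw [eval_zero]; exact HilbLib.chi_isZero k hL.1 h m]
    exact ShGeomLib.cr_zero_left p
  · exact redEq_iff.1 (h.2 q hq)

theorem Cls.iso {M N : X.Modules} (e : M ≅ N) (h : Cls k L d p M) : Cls k L d p N :=
  h.imp (fun hz => hz.of_iso e.symm) fun h => ⟨ShGeomLib.isSemistable_of_iso k e h.1,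
    fun q hq => h.2 q (hp_iso k e.symm hq)⟩

variable (hp : 0 < alpha d p)
include hp

theorem lc_cr_sub {F G : X.Modules} (hF : Cls k L d p F) (ι : G ⟶ F) [Mono ι] (hG : Coh.IsCoh G) {q : ℚ[X]}
    (hq : HP k L G q) : 0 ≤ (cr d q p).leadingCoeff := by
  by_cases h0 : IsZero G
  · rw [hp_unique k hq (Q := 0) fun m => by rw [eval_zero]; exact HilbLib.chi_isZero k hL.1 h0 m,
      ShGeomLib.cr_zero_left, leadingCoeff_zero]
  rcases hF with hF | ⟨hs, hr⟩
  · exact absurd ((IsZero.iff_id_eq_zero G).2 ((cancel_mono ι).1 (hF.eq_of_tgt _ _))) h0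
  obtain ⟨pF, -, pf⟩ := exists_hp k hL hs.1 (dimLE_of_isPure hs.1 hs.2.2.1)
  exact redLE_iff.1 (redLE_trans (alpha_pos_of_isPure k hL hs.1 hs.2.1 hs.2.2.1 pf)
    (alpha_pos_of_isPure k hL hG h0 (isPure_of_mono hs.2.2.1 ι) hq).le hp.le
    (ss_le k hL hs ι hG h0 hq pf) (redLE_of_eq (hr pF pf)))

theorem Cls.sub {F G : X.Modules} (hF : Cls k L d p F) (ι : G ⟶ F) [Mono ι] (hG : Coh.IsCoh G) {q : ℚ[X]}
    (hq : HP k L G q) (he : cr d q p = 0) : Cls k L d p G := by
  by_cases h0 : IsZero G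
  · exact Or.inl h0
  rcases hF with hF' | ⟨hs, hr⟩
  · exact absurd ((IsZero.iff_id_eq_zero G).2 ((cancel_mono ι).1 (hF'.eq_of_tgt _ _))) h0
  have hGp := isPure_of_mono hs.2.2.1 ι
  have hα := alpha_pos_of_isPure k hL hG h0 hGp hq
  refine Or.inr ⟨⟨hG, h0, hGp, fun H g _ hH hH0 _ pH q' ph pq => ?_⟩, fun q' hq' => by
    rw [hp_unique k hq' hq]; exact redEq_iff.2 he⟩
  rw [hp_unique k pq hq]
  refine redLE_trans hp (alpha_pos_of_isPure k hL hH hH0 (isPure_of_mono hGp g) ph).le hα.le ?_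
    (redLE_of_eq (redEq_symm (redEq_iff.2 he)))
  exact redLE_iff.2 (lc_cr_sub k hL hp (Or.inr ⟨hs, hr⟩) (g ≫ ι) hH ph)

theorem lc_cr_quot {E G : X.Modules} (hE : Cls k L d p E) (π : E ⟶ G) [Epi π] (hG : Coh.IsCoh G) {q : ℚ[X]}
    (hq : HP k L G q) : (cr d q p).leadingCoeff ≤ 0 := by
  obtain ⟨pE, -, pe⟩ := exists_hp k hL (Cls.coh k hE) (Cls.dimLE k hL hE)
  obtain ⟨pK, hK, e, hKc, -⟩ := exists_hp_ker k hL π (Cls.coh k hE) hG (Cls.dimLE k hL hE) pe hq
  have h1 := lc_cr_sub k hL hp hE (kernel.ι π) hKc hK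
  have h2 := Cls.cr_eq k hL hE pe
  rw [e, cr_add_left] at h2
  rw [eq_neg_of_add_eq_zero_left h2, leadingCoeff_neg] at h1
  linarith

theorem image_cls {E F : X.Modules} (hE : Cls k L d p E) (hF : Cls k L d p F) (f : E ⟶ F) :
    Cls k L d p (Abelian.image f) := by
  haveI := EulerIneqLib.isNoetherian_proper (X := X) k
  have hI := isCoh_image' f (Cls.coh k hE) (Cls.coh k hF)
  obtain ⟨q, -, hq⟩ := exists_hp k hL hI (dimLE_of_mono (Cls.dimLE k hL hF) (Abelian.image.ι f))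
  exact Cls.sub k hL hp hF (Abelian.image.ι f) hI hq (leadingCoeff_eq_zero.1
    (le_antisymm (lc_cr_quot k hL hp hE (Abelian.factorThruImage f) hI hq)
      (lc_cr_sub k hL hp hF (Abelian.image.ι f) hI hq)))

theorem kernel_cls {E F : X.Modules} (hE : Cls k L d p E) (hF : Cls k L d p F) (f : E ⟶ F) :
    Cls k L d p (kernel f) := by
  haveI := EulerIneqLib.isNoetherian_proper (X := X) k
  have hI := image_cls k hL hp hE hF f
  obtain ⟨pE, -, pe⟩ := exists_hp k hL (Cls.coh k hE) (Cls.dimLE k hL hE)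
  obtain ⟨pI, -, hpI⟩ := exists_hp k hL (Cls.coh k hI) (Cls.dimLE k hL hI)
  obtain ⟨pK, hK, e, -, -⟩ :=
    exists_hp_ker k hL (Abelian.factorThruImage f) (Cls.coh k hE) (Cls.coh k hI) (Cls.dimLE k hL hE) pe hpI
  let i : kernel (Abelian.factorThruImage f) ≅ kernel f :=
    (kernelCompMono (Abelian.factorThruImage f) (Abelian.image.ι f)).symm ≪≫ kernelIsoOfEq (Abelian.image.fac f)
  have h2 := Cls.cr_eq k hL hE pe
  rw [e, cr_add_left, Cls.cr_eq k hL hI hpI, add_zero] at h2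
  exact Cls.sub k hL hp hE (kernel.ι f) (QCohLib.isCoh_kernel_cokernel f (Cls.coh k hE) (Cls.coh k hF)).1
    (hp_iso k i hK) h2

theorem coker_mono_cls {F G : X.Modules} (hF : Cls k L d p F) (hG : Cls k L d p G) (ι : G ⟶ F) [Mono ι] :
    Cls k L d p (cokernel ι) := by
  haveI := EulerIneqLib.isNoetherian_proper (X := X) k
  by_cases h0 : IsZero (cokernel ι)
  · exact Or.inl h0
  rcases hF with hF' | ⟨hs, hr⟩
  · exact absurd ((IsZero.iff_id_eq_zero _).2 (by
      rw [← cancel_epi (cokernel.π ι), Category.comp_id, Limits.comp_zero, hF'.eq_of_src (cokernel.π ι) 0])) h0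
  obtain ⟨pE, -, pe⟩ := exists_hp k hL hs.1 (dimLE_of_isPure hs.1 hs.2.2.1)
  obtain ⟨q, hq⟩ : ∃ q, HP k L G q := (exists_hp k hL (Cls.coh k hG) (Cls.dimLE k hL hG)).imp fun _ h => h.2
  obtain ⟨Q, hQ, e, hQc, -⟩ := exists_hp_coker k hL ι (Cls.coh k hG) hs.1 (dimLE_of_isPure hs.1 hs.2.2.1) hq pe
  let A : CSub F := CSub.mk ι (Cls.coh k hG)
  have hAT : A ≤ topC hs.1 := le_topC hs.1 A
  have hA : pol k hL hs.1 hs.2.2.1 A = q := pol_mk k hL hs.1 hs.2.2.1 ι (Cls.coh k hG) hq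
  have hcrE : cr d pE p = 0 := redEq_iff.1 (hr pE pe)
  have hPA : RedEq d (pol k hL hs.1 hs.2.2.1 A) pE := by
    rw [hA]
    exact redEq_trans hp (redEq_iff.2 (Cls.cr_eq k hL hG hq)) (redEq_symm (redEq_iff.2 hcrE))
  have hPT : RedEq d (pol k hL hs.1 hs.2.2.1 (topC hs.1)) pE := by
    rw [pol_topC k hL hs pe]; exact redEq_refl
  let i : cokernel (Subobject.ofLE A.1 (topC hs.1).1 hAT) ≅ cokernel ι :=
    cokernel.mapIso _ _ (Subobject.underlyingIso ι) (Subobject.underlyingIso (𝟙 F))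
      (by
        have h1 : (Subobject.underlyingIso (𝟙 F)).hom = (Subobject.mk (𝟙 F)).arrow :=
          (Category.comp_id _).symm.trans (Subobject.underlyingIso_hom_comp_eq_mk _)
        rw [h1, Subobject.underlyingIso_hom_comp_eq_mk]
        exact Subobject.ofLE_arrow hAT)
  have hne : A ≠ topC hs.1 := fun e' => h0 <| by
    have : IsIso ι := (Subobject.isIso_iff_mk_eq_top ι).2 ((congrArg Subtype.val e').trans (topC_val hs.1))
    exact isZero_cokernel_of_epi ι
  refine Or.inr ⟨ShGeomLib.isSemistable_of_iso k i (ss_fct k hL hs pe hAT hne hPA hPT), fun Q' hQ' => ?_⟩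
  rw [hp_unique k hQ' hQ, redEq_iff]
  rwa [e, cr_add_left, Cls.cr_eq k hL hG hq, zero_add] at hcrE

theorem cokernel_cls {E F : X.Modules} (hE : Cls k L d p E) (hF : Cls k L d p F) (f : E ⟶ F) :
    Cls k L d p (cokernel f) :=
  Cls.iso k hL ((cokernelEpiComp (Abelian.factorThruImage f) (Abelian.image.ι f)).symm ≪≫
      cokernelIsoOfEq (Abelian.image.fac f))
    (coker_mono_cls k hL hp hF (image_cls k hL hp hE hF f) (Abelian.image.ι f))

/-- Stable of the reduced polynomial of `p`. -/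
theorem cls_of_stable {S : X.Modules} (h : ShStab.IsStable k X L S d) (hr : ∀ q, HP k L S q → RedEq d q p) :
    Cls k L d p S := Or.inr ⟨isSemistable_of_isStable k hL h, hr⟩

theorem epi_to_stable {B S : X.Modules} (hB : Cls k L d p B) (hS : ShStab.IsStable k X L S d)
    (hr : ∀ q, HP k L S q → RedEq d q p) (φ : B ⟶ S) (hφ : φ ≠ 0) : Epi φ := by
  rcases hB with hB | ⟨hs, hrB⟩
  · exact absurd (hB.eq_of_src _ _) hφ
  obtain ⟨pB, -, pb⟩ := exists_hp k hL hs.1 (dimLE_of_isPure hs.1 hs.2.2.1)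
  obtain ⟨pS, -, ps⟩ := exists_hp k hL hS.1 (dimLE_of_isPure hS.1 hS.2.2.1)
  exact epi_of_stable k hL hs hS pb ps (redEq_trans hp (hrB pB pb) (redEq_symm (hr pS ps))) φ hφ

theorem mono_of_stable' {S F : X.Modules} (hF : Cls k L d p F) (hS : ShStab.IsStable k X L S d)
    (hr : ∀ q, HP k L S q → RedEq d q p) (φ : S ⟶ F) (hφ : φ ≠ 0) : Mono φ := by
  rcases hF with hF | ⟨hs, hrF⟩
  · exact absurd (hF.eq_of_tgt _ _) hφ
  obtain ⟨pF, -, pf⟩ := exists_hp k hL hs.1 (dimLE_of_isPure hs.1 hs.2.2.1)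
  obtain ⟨pS, -, ps⟩ := exists_hp k hL hS.1 (dimLE_of_isPure hS.1 hS.2.2.1)
  exact mono_of_stable k hL hS hs ps pf (redEq_trans hp (hr pS ps) (redEq_symm (hrF pF pf))) φ hφ

end Groth.Agent.RedClassLib
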