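import Groth.Agent.RedClassLib.Chain
import Groth.Agent.DCohLib.StalkRestrictFree
import Groth.Agent.S15202
import Mathlib.LinearAlgebra.TensorProduct.Basis

/-!
# Graded objects which are locally free at a point
-/

set_option autoImplicit false
set_option backward.isDefEq.respectTransparency false
set_option linter.style.haveILetI false
set_option linter.unusedSectionVars false
set_option maxHeartbeats 1000000

universe u

open CategoryTheory CategoryTheory.Limits AlgebraicGeometry Polynomial StabCat TopologicalSpace TensorProduct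

noncomputable section

namespace Groth.Agent.RedClassLib

open ShStabLib PullbackMod

variable {X : Scheme.{u}}

/-- Finite locally free near a point. -/
def FlfNear (x : X) (M : X.Modules) : Prop :=
  ∃ U : X.Opens, x ∈ U ∧ FlatMod.IsFinLocFree (M.restrict U.ι)

theorem FlfNear.iso {x : X} {M N : X.Modules} (e : M ≅ N) (h : FlfNear x M) : FlfNear x N :=
  let ⟨U, hx, hU⟩ := h
  ⟨U, hx, DCohLib.isFinLocFree_iso ((Scheme.Modules.restrictFunctor U.ι).mapIso e) hU⟩

theorem FlfNear.free {x : X} {M : X.Modules} (h : FlfNear x M) :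
    Module.Free (X.presheaf.stalk x) (M.presheaf.stalk x) ∧ Module.Finite (X.presheaf.stalk x) (M.presheaf.stalk x) := by
  obtain ⟨U, hx, hU⟩ := h
  exact (DCohLib.free_finite_stalk_restrict_iff U.ι M ⟨x, hx⟩).1 (DCohLib.free_finite_stalk_of_flf hU ⟨x, hx⟩)

theorem flfNear_factor {x : X} {E : X.Modules} {s : LTSeries (Subobject E)} (h : FlfNear x (grObj s))
    (l : Fin s.length) : FlfNear x (factor s l) := by
  classical
  obtain ⟨U, hx, hU⟩ := h
  let R := Scheme.Modules.restrictFunctor U.ι
  let i : factor s l ⟶ grObj s := Sigma.ι (fun j => factor s j) l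
  let p : grObj s ⟶ factor s l :=
    Sigma.desc fun j => if hj : j = l then eqToHom (by rw [hj]) else 0
  have hip : i ≫ p = 𝟙 _ := by simp [i, p]
  refine ⟨U, hx, DCohLib.isFinLocFree_of_retract (R.map i) (R.map p) ?_ hU⟩
  rw [← R.map_comp, hip, R.map_id]

theorem flfNear_grObj {x : X} {E : X.Modules} {s : LTSeries (Subobject E)}
    (h : ∀ l, FlfNear x (factor s l)) : FlfNear x (grObj s) := by
  choose U hx hU using h
  let W : X.Opens := Finset.univ.inf U
  have hxW : x ∈ W := by
    show x ∈ (Finset.univ.inf U : X.Opens)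
    refine Finset.inf_induction (p := fun V : X.Opens => x ∈ V) (Opens.mem_top x) (fun a ha b hb => ⟨ha, hb⟩) fun l _ => hx l
  let R := Scheme.Modules.restrictFunctor W.ι
  haveI : PreservesColimitsOfSize.{0, 0} R := (Scheme.Modules.restrictAdjunction W.ι).leftAdjoint_preservesColimits
  exact ⟨W, hxW, DCohLib.isFinLocFree_iso (PreservesCoproduct.iso R _).symm
    (DCohLib.isFinLocFree_sigma _ _ fun l =>
      GenBCLib.isFinLocFree_restrict_le (Finset.inf_le (Finset.mem_univ l)) (hU l))⟩

variable {k : Type u} [Field k] [X.Over (Spec (CommRingCat.of k))] [IsProper (X ↘ Spec (CommRingCat.of k))]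
  {L : X.Modules} {d : ℕ} {p : ℚ[X]} (hL : CohB1.IsAmple L) (hp : 0 < alpha d p)
include hL hp

/-- Jordan-Hölder chains exist in the class. -/
theorem exists_chain {M : X.Modules} (hM : Cls k L d p M) :
    ∃ s : LTSeries (Subobject M), ShStab.IsJHFiltration k X L M d s ∧
      ∀ i : Fin s.length, ShStab.IsStable k X L (factor s i) d ∧ ∀ q, HP k L (factor s i) q → RedEq d q p := by
  rcases hM with h0 | ⟨hs, hr⟩
  · refine ⟨singleS ⊥, ⟨rfl, ?_, fun i => i.elim0⟩, fun i => i.elim0⟩
    show (⊥ : Subobject M) = ⊤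
    exact (eq_bot_of_isZero (h0.of_iso (asIso (⊤ : Subobject M).arrow))).symm
  · obtain ⟨s, hs'⟩ := Groth.Agent.S15202.result k X L hL d M hs
    obtain ⟨pM, -, pm⟩ := exists_hp k hL hs.1 (dimLE_of_isPure hs.1 hs.2.2.1)
    exact ⟨s, hs', fun i => ⟨(hs'.2.2 i).1, fun q hq =>
      redEq_trans (alpha_pos_of_isPure k hL hs.1 hs.2.1 hs.2.2.1 pm) ((hs'.2.2 i).2 q pM hq pm) (hr pM pm)⟩⟩

variable {E : X.Modules} {s : LTSeries (Subobject E)} (hE : Cls k L d p E) (hs0 : s.head = ⊥) (hs1 : s.last = ⊤)
  (hst : ∀ i : Fin s.length, ShStab.IsStable k X L (factor s i) d ∧ ∀ q, HP k L (factor s i) q → RedEq d q p)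
  {x : X} (hx : FlfNear x (grObj s))
include hE hs0 hs1 hst hx

theorem sub_chain {G : X.Modules} (ι : G ⟶ E) [Mono ι] (hG : Cls k L d p G) :
    ∃ t : LTSeries (Subobject G), ShStab.IsJHFiltration k X L G d t ∧ FlfNear x (grObj t) := by
  obtain ⟨t, ht, htst⟩ := exists_chain hL hp hG
  refine ⟨t, ht, flfNear_grObj fun i => ?_⟩
  haveI : IsIso (s (Fin.last s.length)).arrow := Subobject.isIso_arrow_iff_eq_top _ |>.2 hs1
  obtain ⟨l, ⟨e⟩⟩ := exists_iso_factor hL hp hE hs0 hst (htst i).1 (htst i).2 (Fin.last _)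
    (cls_member hL hp hG ht.1 htst i.succ) ((t i.succ).arrow ≫ ι ≫ inv (s (Fin.last s.length)).arrow)
    inferInstance (cokernel.π _ : (t i.succ : X.Modules) ⟶ factor t i) inferInstance
  exact (flfNear_factor hx l).iso e.symm

theorem quot_chain {G : X.Modules} (ι : G ⟶ E) [Mono ι] (hG : Cls k L d p G) :
    ∃ t : LTSeries (Subobject (cokernel ι)), ShStab.IsJHFiltration k X L (cokernel ι) d t ∧ FlfNear x (grObj t) := by
  have hQ := coker_mono_cls k hL hp hE hG ι
  obtain ⟨t, ht, htst⟩ := exists_chain hL hp hQ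
  refine ⟨t, ht, flfNear_grObj fun i => ?_⟩
  let m := (t i.succ).arrow
  have hm := cls_member hL hp hQ ht.1 htst i.succ
  let h : E ⟶ cokernel m := cokernel.π ι ≫ cokernel.π m
  have hB : Cls k L d p (kernel h) := kernel_cls k hL hp hE (cokernel_cls k hL hp hm hQ m) h
  have e0 : (kernel.ι h ≫ cokernel.π ι) ≫ cokernel.π m = 0 := by
    rw [Category.assoc]; exact kernel.condition h
  let u : kernel h ⟶ (t i.succ : X.Modules) := Abelian.monoLift m _ e0
  haveI : Epi u := by
    let v : Limits.pullback (cokernel.π ι) m ⟶ kernel h := kernel.lift h (pullback.fst _ _)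
      (by show pullback.fst _ _ ≫ cokernel.π ι ≫ cokernel.π m = 0
          rw [← Category.assoc, pullback.condition, Category.assoc, cokernel.condition, Limits.comp_zero])
    have hv : v ≫ u = pullback.snd (cokernel.π ι) m := by
      rw [← cancel_mono m, Category.assoc, Abelian.monoLift_comp, ← Category.assoc, kernel.lift_ι, pullback.condition]
    haveI : Epi (v ≫ u) := by rw [hv]; infer_instance
    exact epi_of_epi v u
  haveI : IsIso (s (Fin.last s.length)).arrow := Subobject.isIso_arrow_iff_eq_top _ |>.2 hs1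
  haveI : Epi (cokernel.π _ : (t i.succ : X.Modules) ⟶ factor t i) :=
    inferInstanceAs (Epi (cokernel.π (Subobject.ofLE (t i.castSucc) (t i.succ) (t.step i).le)))
  obtain ⟨l, ⟨e⟩⟩ := exists_iso_factor hL hp hE hs0 hst (htst i).1 (htst i).2 (Fin.last _)
    hB (kernel.ι h ≫ inv (s (Fin.last s.length)).arrow)
    inferInstance (u ≫ (cokernel.π _ : (t i.succ : X.Modules) ⟶ factor t i)) inferInstance
  exact (flfNear_factor hx l).iso e.symm

omit hL hp hE hs0 hs1 hst hx in
theorem free_of_chain {M : X.Modules} {t : LTSeries (Subobject M)} (ht0 : t.head = ⊥) (ht1 : t.last = ⊤)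
    (h : FlfNear x (grObj t)) : Module.Projective (X.presheaf.stalk x) (M.presheaf.stalk x) := by
  haveI : IsIso (t (Fin.last t.length)).arrow := Subobject.isIso_arrow_iff_eq_top _ |>.2 ht1
  haveI := projective_stalk_member ht0 x (fun i =>
    haveI := (flfNear_factor h i).free.1
    inferInstance) (Fin.last t.length)
  exact Module.Projective.of_equiv (LinearEquiv.ofBijective _
    ((isIso_iff_stalk (t (Fin.last t.length)).arrow).1 inferInstance x))

end Groth.Agent.RedClassLib
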