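import Groth.Prelude.Def_W4c2simpsonmod1HP
import Groth.Agent.S15191
import Groth.Agent.ShStabLib.JH
import Groth.Agent.QCohLib.Coherent
import Groth.Agent.HilbStratLib.ProjFibre
import Groth.Agent.AmpleEmb.TwistOne
import Groth.Agent.AmpleEmb.Serre
import Groth.Agent.ProjTwistLib.Ample
import Groth.Agent.CompleteCurve.ProjSpace

/-!
# Harder-Narasimhan filtrations on projective space as finite chains
-/

set_option autoImplicit false
set_option backward.isDefEq.respectTransparency false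
set_option linter.style.haveILetI false
set_option linter.unusedSectionVars false
set_option maxHeartbeats 1600000

universe u

open CategoryTheory CategoryTheory.Limits AlgebraicGeometry StabCat TopologicalSpace
open Polynomial (eval eval_smul)
open scoped Polynomial

noncomputable section

namespace Groth.Agent.RedClassLib

open ShStabLib QCohLib

/-- The Hilbert polynomial for all integers. -/
def ZHP (n : ℕ) (M : (CohB1.ProjSpace n ℂ).Modules) (φ : ℚ[X]) : Prop :=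
  ∀ m : ℤ, (Curv2.euler ℂ (CohB1.ProjSpace n ℂ) (CohB1.tensorMod M (Twist.twistProjSpace n ℂ m)) : ℚ) = φ.eval (m : ℚ)

variable {n : ℕ}

instance : IsProper (CohB1.ProjSpace n ℂ ↘ Spec (CommRingCat.of ℂ)) :=
  inferInstanceAs (IsProper (CohB1.ProjSpace.toSpec n ℂ))

local notation "L₁" => Twist.twistProjSpace n ℂ 1

theorem hp_of_zhp {M : (CohB1.ProjSpace n ℂ).Modules} {φ : ℚ[X]} (h : ZHP n M φ) :
    ShStab.IsHilbPoly ℂ (CohB1.ProjSpace n ℂ) L₁ M φ := fun m => by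
  have hcov : (⨆ f : CohB1.polyGrading n ℂ 1, Proj.basicOpen (CohB1.polyGrading n ℂ) (f : _)) = ⊤ := by
    rw [eq_top_iff, ← AmpleEmb.iSup_stdOpen n ℂ]
    exact iSup_le fun a => le_iSup_of_le (AmpleEmb.coordForm n ℂ a) le_rfl
  let e : CohB1.tensorMod M (CohB1.tensorPow L₁ m) ≅ CohB1.tensorMod M (Twist.twistProjSpace n ℂ (m : ℤ)) :=
    AmpleLib.tIso (Iso.refl M)
      (ProjTwistLib.powIso (ProjTwistLib.hasUnit_one_of_cover hcov 1) m ≪≫
        eqToIso (congrArg (Twist.twist (CohB1.polyGrading n ℂ)) (mul_one (m : ℤ))))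
  have h' := h (m : ℤ)
  rw [← CurveLib.euler_iso (K := ℂ) e] at h'
  simpa [ShStab.twist] using h'

theorem zhp_of_hp
    {M : (CohB1.ProjSpace n ℂ).Modules} (hM : Coh.IsCoh M) {φ : ℚ[X]}
    (h : ShStab.IsHilbPoly ℂ (CohB1.ProjSpace n ℂ) L₁ M φ) : ZHP n M φ := by
  obtain ⟨Q, hQ⟩ := HilbStratLib.exists_euler_poly hM
  rwa [hp_unique ℂ h (hp_of_zhp hQ)]

theorem eventually_iff {p : ℤ → Prop} :
    (∃ N : ℤ, ∀ m : ℤ, N ≤ m → p m) ↔ ∃ N : ℕ, ∀ m : ℕ, N ≤ m → p (m : ℤ) := by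
  refine ⟨fun ⟨N, h⟩ => ⟨N.toNat, fun m hm => h m (by omega)⟩, fun ⟨N, h⟩ => ⟨(N : ℤ), fun m hm => ?_⟩⟩
  obtain ⟨j, rfl⟩ := Int.eq_ofNat_of_zero_le (le_trans (Int.natCast_nonneg N) hm)
  exact h j (by omega)

theorem redLE_conv {d : ℕ} {ψ φ : ℚ[X]} (hψ : 0 < alpha d ψ) (hφ : 0 < alpha d φ) :
    W4c2simpsonmod1.RedLE d ψ φ ↔ RedLE d ψ φ := by
  rw [W4c2simpsonmod1.RedLE, eventually_iff]
  refine exists_congr fun N => forall₂_congr fun m _ => ?_
  simp only [eval_smul, smul_eq_mul, Int.cast_natCast]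
  show _ / alpha d ψ ≤ _ / alpha d φ ↔ _
  rw [div_le_div_iff₀ hψ hφ, mul_comm _ (alpha d φ), mul_comm _ (alpha d ψ)]

theorem redLT_conv {d : ℕ} {ψ φ : ℚ[X]} (hψ : 0 < alpha d ψ) (hφ : 0 < alpha d φ) :
    W4c2simpsonmod1.RedLT d ψ φ ↔ RedLT d ψ φ := by
  rw [W4c2simpsonmod1.RedLT, eventually_iff]
  refine exists_congr fun N => forall₂_congr fun m _ => ?_
  simp only [eval_smul, smul_eq_mul, Int.cast_natCast]
  show _ / alpha d ψ < _ / alpha d φ ↔ _
  rw [div_lt_div_iff₀ hψ hφ, mul_comm _ (alpha d φ), mul_comm _ (alpha d ψ)]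

/-- A finite chain with least and greatest elements is the range of a series. -/
theorem exists_series {α : Type*} [PartialOrder α] (C : Finset α) (hc : IsChain (· ≤ ·) (C : Set α))
    {b t : α} (hb : b ∈ C) (ht : t ∈ C) (hb' : ∀ x, b ≤ x) (ht' : ∀ x, x ≤ t) :
    ∃ s : LTSeries α, s.head = b ∧ s.last = t ∧ ∀ x, x ∈ C ↔ ∃ i, s i = x := by
  classical
  letI : LinearOrder ↥C :=
    { (inferInstance : PartialOrder ↥C) with
      le_total := fun a c => hc.total a.2 c.2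
      toDecidableLE := Classical.decRel _ }
  obtain ⟨l, hl⟩ : ∃ l, C.card = l + 1 := ⟨C.card - 1, by have := Finset.card_pos.2 ⟨b, hb⟩; omega⟩
  let e : Fin (l + 1) ≃o ↥C := Fintype.orderIsoFinOfCardEq ↥C (by rw [Fintype.card_coe, hl])
  let s : LTSeries α := LTSeries.mk l (fun i => (e i).1) fun i j h => e.strictMono h
  refine ⟨s, le_antisymm ?_ (hb' _), le_antisymm (ht' _) ?_, fun x => ⟨fun hx => ⟨e.symm ⟨x, hx⟩, ?_⟩, ?_⟩⟩
  · have : e 0 ≤ e (e.symm ⟨b, hb⟩) := e.monotone (Fin.zero_le _)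
    rw [e.apply_symm_apply] at this
    exact this
  · have : e (e.symm ⟨t, ht⟩) ≤ e (Fin.last l) := e.monotone (Fin.le_last _)
    rw [e.apply_symm_apply] at this
    exact this
  · show ((e (e.symm ⟨x, hx⟩)).1 : α) = x
    rw [e.apply_symm_apply]
  · rintro ⟨i, rfl⟩
    exact (e i).2

/-- Neighbours in the range of a series. -/
theorem exists_consec {α : Type*} [PartialOrder α] (s : LTSeries α) {A B : α} (hA : ∃ i, s i = A) (hB : ∃ i, s i = B)
    (hAB : A < B) (hno : ∀ D, (∃ i, s i = D) → ¬ (A < D ∧ D < B)) :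
    ∃ i : Fin s.length, A = s i.castSucc ∧ B = s i.succ := by
  obtain ⟨i, rfl⟩ := hA
  obtain ⟨j, rfl⟩ := hB
  have hij : i < j := s.strictMono.lt_iff_lt.1 hAB
  have hi : (i : ℕ) < s.length := lt_of_lt_of_le hij (Nat.lt_succ_iff.1 j.2)
  refine ⟨⟨i, hi⟩, rfl, ?_⟩
  by_contra hne
  have h1 : (⟨i, hi⟩ : Fin s.length).succ < j := lt_of_le_of_ne hij fun e => hne (by rw [e])
  exact hno _ ⟨_, rfl⟩ ⟨s.strictMono (Nat.lt_succ_self _), s.strictMono h1⟩

theorem no_between {α : Type*} [PartialOrder α] (s : LTSeries α) (i : Fin s.length) {D : α} (hD : ∃ j, s j = D) :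
    ¬ (s i.castSucc < D ∧ D < s i.succ) := by
  obtain ⟨j, rfl⟩ := hD
  rintro ⟨h1, h2⟩
  have h1' : (i : ℕ) < (j : ℕ) := s.strictMono.lt_iff_lt.1 h1
  have h2' : (j : ℕ) < (i : ℕ) + 1 := s.strictMono.lt_iff_lt.1 h2
  omega

/-- The conditions on the finite chain. -/
theorem existsUnique_chain (d : ℕ) (E : (CohB1.ProjSpace n ℂ).Modules) (hE : Coh.IsCoh E) (h0 : ¬ IsZero E)
    (hp : ShStab.IsPure _ E d) :
    ∃! C : Finset (Subobject E),
      ⊥ ∈ C ∧ ⊤ ∈ C ∧ IsChain (fun A B : Subobject E => A ≤ B) (↑C : Set (Subobject E)) ∧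
      (∀ A ∈ C, Coh.IsCoh (A : (CohB1.ProjSpace n ℂ).Modules)) ∧
      (∀ A ∈ C, ∀ B ∈ C, ∀ hAB : A < B, (∀ D ∈ C, ¬ (A < D ∧ D < B)) →
        (topologicalKrullDim ↥(CohB1.support (cokernel (Subobject.ofLE A B hAB.le))) = (d : WithBot ℕ∞) ∧
          ShStab.IsPure _ (cokernel (Subobject.ofLE A B hAB.le)) d) ∧
        (∀ (G : (CohB1.ProjSpace n ℂ).Modules) (ι : G ⟶ (cokernel (Subobject.ofLE A B hAB.le))), Mono ι → Coh.IsCoh G → ¬ IsZero G →
          ∀ φ ψ : ℚ[X], ZHP n (cokernel (Subobject.ofLE A B hAB.le)) φ → ZHP n G ψ →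
            W4c2simpsonmod1.RedLE d ψ φ)) ∧
      (∀ A ∈ C, ∀ B ∈ C, ∀ B' ∈ C, ∀ hAB : A < B, ∀ hBB : B < B',
        (∀ D ∈ C, ¬ (A < D ∧ D < B)) → (∀ D ∈ C, ¬ (B < D ∧ D < B')) →
        ∀ ψ ψ' : ℚ[X], ZHP n (cokernel (Subobject.ofLE A B hAB.le)) ψ →
          ZHP n (cokernel (Subobject.ofLE B B' hBB.le)) ψ' →
          W4c2simpsonmod1.RedLT d ψ' ψ) := by
  classical
  haveI : IsProper (CohB1.ProjSpace n ℂ ↘ Spec (CommRingCat.of ℂ)) :=
    inferInstanceAs (IsProper (CohB1.ProjSpace.toSpec n ℂ))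
  haveI := EulerIneqLib.isNoetherian_proper (X := CohB1.ProjSpace n ℂ) ℂ
  have hL := AmpleEmb.isAmple_twistOne n ℂ
  obtain ⟨s₀, ⟨hh, hl, hss, hdec⟩, huniq⟩ := Groth.Agent.S15191.result ℂ _ _ hL d E hE h0 hp
  have hpos : ∀ {M : (CohB1.ProjSpace n ℂ).Modules}, ShStab.IsSemistable ℂ _ L₁ M d → ∀ {q : ℚ[X]}, ZHP n M q → 0 < alpha d q :=
    fun {M} hM {q} hq => alpha_pos_of_isPure ℂ hL hM.1 hM.2.1 hM.2.2.1 (hp_of_zhp hq)
  let C₀ : Finset (Subobject E) := Finset.univ.image fun i => s₀ i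
  have hmem : ∀ {x : Subobject E}, x ∈ C₀ ↔ ∃ i, s₀ i = x := fun {x} => by simp [C₀]
  refine ⟨C₀, ⟨hmem.2 ⟨0, hh⟩, hmem.2 ⟨Fin.last _, hl⟩, ?_, ?_, ?_, ?_⟩, ?_⟩
  · intro A hA B hB _
    obtain ⟨i, rfl⟩ := hmem.1 hA
    obtain ⟨j, rfl⟩ := hmem.1 hB
    exact (le_total i j).imp (fun h => s₀.strictMono.monotone h) fun h => s₀.strictMono.monotone h
  · intro A hA
    obtain ⟨i, rfl⟩ := hmem.1 hA
    induction i using Fin.induction with
    | zero =>
      rw [show s₀ 0 = ⊥ from hh]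
      exact DevLib.isCoh_of_isZero (bot_isZero E)
    | succ i ih =>
      exact isCoh_of_fct ℂ (A := ⟨s₀ i.castSucc, ih (hmem.2 ⟨_, rfl⟩)⟩) (s₀.step i).le (hss i).1
  · intro A hA B hB hAB hno
    obtain ⟨i, rfl, rfl⟩ := exists_consec s₀ (hmem.1 hA) (hmem.1 hB) hAB fun D hD => hno D (hmem.2 hD)
    have hi : ShStab.IsSemistable ℂ _ L₁ (cokernel (Subobject.ofLE (s₀ i.castSucc) (s₀ i.succ) hAB.le)) d := hss i
    refine ⟨⟨hi.2.2.1 _ (𝟙 _) inferInstance hi.1 hi.2.1, hi.2.2.1⟩, fun G ι hι hG hG0 φ ψ hφ hψ => ?_⟩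
    haveI := hι
    refine (redLE_conv (alpha_pos_of_isPure ℂ hL hG hG0 (isPure_of_mono hi.2.2.1 ι) (hp_of_zhp hψ)) (hpos hi hφ)).2 ?_
    exact ss_le ℂ hL hi ι hG hG0 (hp_of_zhp hψ) (hp_of_zhp hφ)
  · intro A hA B hB B' hB' hAB hBB h1 h2 ψ ψ' hψ hψ'
    obtain ⟨i, rfl, e⟩ := exists_consec s₀ (hmem.1 hA) (hmem.1 hB) hAB fun D hD => h1 D (hmem.2 hD)
    obtain ⟨j, e', rfl⟩ := exists_consec s₀ (hmem.1 hB) (hmem.1 hB') hBB fun D hD => h2 D (hmem.2 hD)
    subst e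
    have hij : i.succ = j.castSucc := s₀.strictMono.injective e'
    have hsi : ShStab.IsSemistable ℂ _ L₁ (cokernel (Subobject.ofLE (s₀ i.castSucc) (s₀ i.succ) hAB.le)) d := hss i
    have key : ∀ (B : Subobject E) (hj : B < s₀ j.succ) (_ : B = s₀ j.castSucc),
        cokernel (Subobject.ofLE B (s₀ j.succ) hj.le) = factor s₀ j := by
      rintro B hj rfl
      rfl
    have ej := key _ hBB e'
    have hsj : ShStab.IsSemistable ℂ _ L₁ (cokernel (Subobject.ofLE (s₀ i.succ) (s₀ j.succ) hBB.le)) d := by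
      rw [ej]; exact hss j
    refine (redLT_conv (hpos hsj hψ') (hpos hsi hψ)).2
      (hdec i j (by simpa [Fin.ext_iff] using hij) ψ ψ' (hp_of_zhp hψ) ?_)
    rw [← ej]
    exact hp_of_zhp hψ'
  · rintro C ⟨cb, ct, cc, ccoh, css, cdec⟩
    obtain ⟨t, th, tl, tm⟩ := exists_series C cc cb ct (fun x => bot_le) (fun x => le_top)
    have hm : ∀ i, t i ∈ C := fun i => (tm _).2 ⟨i, rfl⟩
    have hnb : ∀ (i : Fin t.length), ∀ D ∈ C, ¬ (t i.castSucc < D ∧ D < t i.succ) := fun i D hD =>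
      no_between t i ((tm D).1 hD)
    have hS : ∀ i : Fin t.length, ShStab.IsSemistable ℂ _ L₁ (factor t i) d := fun i => by
      obtain ⟨⟨-, hpu⟩, hle⟩ := css _ (hm i.castSucc) _ (hm i.succ) (t.step i) (hnb i)
      have hc : Coh.IsCoh (factor t i) :=
        (isCoh_kernel_cokernel (Subobject.ofLE (t i.castSucc) (t i.succ) (t.step i).le) (ccoh _ (hm _)) (ccoh _ (hm _))).2
      have hn0 : ¬ IsZero (factor t i) := fun hz => by
        haveI : Epi (Subobject.ofLE (t i.castSucc) (t i.succ) (t.step i).le) := Preadditive.epi_of_isZero_cokernel _ hz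
        haveI := isIso_of_mono_of_epi (Subobject.ofLE (t i.castSucc) (t i.succ) (t.step i).le)
        exact (t.step i).ne (le_antisymm (t.step i).le
          (Subobject.le_of_comm (inv (Subobject.ofLE (t i.castSucc) (t i.succ) (t.step i).le))
            (by rw [IsIso.inv_comp_eq, Subobject.ofLE_arrow])))
      refine ⟨hc, hn0, hpu, fun G ι hι hG hG0 _ pG pF hpG hpF => ?_⟩
      haveI := hι
      exact (redLE_conv (alpha_pos_of_isPure ℂ hL hG hG0 (isPure_of_mono hpu ι) hpG)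
        (alpha_pos_of_isPure ℂ hL hc hn0 hpu hpF)).1
        (hle G ι hι hG hG0 pF pG (zhp_of_hp hc hpF) (zhp_of_hp hG hpG))
    have ht : t = s₀ := huniq t ⟨th, tl, hS, fun i j hij p q hpp hqq => by
      have e : i.succ = j.castSucc := Fin.ext (by simpa using hij)
      have h1 := hm i.succ
      have key : ∀ (B : Subobject E) (hB : B ∈ C) (hj : B < t j.succ) (_ : B = t j.castSucc),
          (∀ D ∈ C, ¬ (B < D ∧ D < t j.succ)) ∧
          cokernel (Subobject.ofLE B (t j.succ) hj.le) = factor t j := by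
        rintro B - hj rfl
        exact ⟨hnb j, rfl⟩
      have hlt : t i.succ < t j.succ := by rw [e]; exact t.step j
      obtain ⟨hno, ef⟩ := key _ h1 hlt (by rw [e])
      refine (redLT_conv (alpha_pos_of_isPure ℂ hL (hS j).1 (hS j).2.1 (hS j).2.2.1 hqq)
        (alpha_pos_of_isPure ℂ hL (hS i).1 (hS i).2.1 (hS i).2.2.1 hpp)).1
        (cdec _ (hm i.castSucc) _ h1 _ (hm j.succ) (t.step i) hlt (hnb i) hno p q (zhp_of_hp (hS i).1 hpp) ?_)
      rw [ef]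
      exact zhp_of_hp (hS j).1 hqq⟩
    subst ht
    ext x
    rw [tm x, hmem]

end Groth.Agent.RedClassLib
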